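import Groth.Agent.PicLoc.K685.LimitML
import Groth.Agent.PicLoc.K730.NilDefs
import Groth.Agent.Picfga.LineDescent
import Groth.Agent.Pic13.H126.ThickFF
import Groth.Agent.VarietyA.CurveFin

/-!
# `E`-sharpness passes to limits (S12351, T1c)
-/

set_option autoImplicit false
universe u v
open CategoryTheory CategoryTheory.Limits AlgebraicGeometry MonoidalCategory

namespace K685.EshLimit

open scoped Groth.Agent.Dcoh.MonCat
open Groth.Agent Groth.Agent.FormalB.ModPow K685.LimitML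

section core

variable {A : Type u} [CommRing A] [IsNoetherianRing A] (I : Ideal A) {X : Scheme.{u}}
  [X.Over (Spec (CommRingCat.of A))] [IsProper (X ↘ Spec (CommRingCat.of A))]

/-- Transport of evaluations along an isomorphism modulo `I^m`. -/
theorem exists_const {L : X.Modules} (hL : PicF.IsInvertible L) :
    ∃ c : ℕ, ∀ (k m : ℕ) (_ : k + c < m) {L' Q Q' P : X.Modules} (q : L ⟶ Q) (q' : L' ⟶ Q') (_ : Q ≅ Q')
      (p : 𝟙_ X.Modules ⟶ P), IsModPow (I ^ m) q → IsModPow (I ^ m) q' → IsModPow (I ^ (k + 1)) p →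
        ∀ (s' : 𝟙_ X.Modules ⟶ L') (t' : L' ⟶ 𝟙_ X.Modules),
          ∃ (s : 𝟙_ X.Modules ⟶ L) (t : L ⟶ 𝟙_ X.Modules), s ≫ t ≫ p = s' ≫ t' ≫ p := by
  obtain ⟨N, hN, ⟨e⟩⟩ := K706.InvTens.exists_inv hL
  have hcN : Coh.IsCoh (𝟙_ X.Modules ⊗ N : X.Modules) :=
    VarietyA.CurveFin.isCoh_of_isInvertible
      (Fdesc.LocGen.isInvertible_tensorMod (fun x => Fdesc.LocGen.isInvertible_structureModule x) hN)
  obtain ⟨c₁, hc₁⟩ := ml_unit I (VarietyA.CurveFin.isCoh_of_isInvertible hL)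
  obtain ⟨c₂, hc₂⟩ := ml_hom I e hcN
  refine ⟨c₁ + c₂, fun k m hkm {L' Q Q' P} q q' φ p hq hq' hp s' t' => ?_⟩
  have hk : I ^ m ≤ I ^ (k + 1) := Ideal.pow_le_pow_right (by omega)
  have hO := isModPow_modPowπ I m (𝟙_ X.Modules)
  have hpL := isModPow_modPowπ I (k + 1) L
  obtain ⟨T, hT⟩ := hq'.desc (t' ≫ Formal.modPowπ I m (𝟙_ X.Modules)) (fun a ha => by
    rw [smulMod_naturality, Category.assoc, ← smulMod_naturality, hO.smul_comp a ha, comp_zero])
  obtain ⟨trO, htrO⟩ := hO.desc p (fun a ha => hp.smul_comp a (hk ha))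
  obtain ⟨trL, htrL⟩ := hq.desc (Formal.modPowπ I (k + 1) L) (fun a ha => hpL.smul_comp a (hk ha))
  obtain ⟨s, hs⟩ := hc₁ k m (by omega) (Formal.modPowπ I (k + 1) L) q trL hpL hq htrL (s' ≫ q' ≫ φ.inv)
  obtain ⟨t, ht⟩ := hc₂ k m (by omega) p (Formal.modPowπ I m (𝟙_ X.Modules)) trO hp hO htrO (q ≫ φ.hom ≫ T)
  obtain ⟨D, hD⟩ := hpL.desc (q ≫ φ.hom ≫ T ≫ trO) (fun a ha => by
    rw [smulMod_naturality, hp.killedBy a ha, comp_zero])
  have hD' : trL ≫ D = φ.hom ≫ T ≫ trO := by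
    have := hq.epi
    rw [← cancel_epi q, reassoc_of% htrL, hD]
  refine ⟨s, t, ?_⟩
  rw [ht]
  simp only [Category.assoc] at hs ⊢
  rw [← hD, reassoc_of% hs, hD', Iso.inv_hom_id_assoc, reassoc_of% hT, htrO]

end core

section krull

/-- Submodules of finite modules over Noetherian local rings are closed. -/
theorem mem_of_forall {B M : Type*} [CommRing B] [IsNoetherianRing B] [IsLocalRing B] [AddCommGroup M] [Module B M]
    [Module.Finite B M] (N : Submodule B M) (x : M)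
    (h : ∀ n : ℕ, ∃ y ∈ N, x - y ∈ (IsLocalRing.maximalIdeal B ^ n • ⊤ : Submodule B M)) : x ∈ N := by
  have h1 : N.mkQ x ∈ (⨅ i : ℕ, IsLocalRing.maximalIdeal B ^ i • ⊤ : Submodule B (M ⧸ N)) := by
    rw [Submodule.mem_iInf]
    intro n
    obtain ⟨y, hy, hxy⟩ := h n
    have h2 : N.mkQ x = N.mkQ (x - y) := by
      rw [map_sub, show N.mkQ y = 0 from (Submodule.Quotient.mk_eq_zero N).2 hy, sub_zero]
    rw [h2]
    have h3 := Submodule.mem_map_of_mem (f := N.mkQ) hxy
    rw [Submodule.map_smul''] at h3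
    exact Submodule.smul_mono le_rfl le_top h3
  rw [Ideal.iInf_pow_smul_eq_bot_of_isLocalRing _ (Ideal.IsPrime.ne_top inferInstance), Submodule.mem_bot] at h1
  exact (Submodule.Quotient.mk_eq_zero N).1 h1

end krull

open Groth.Agent.PicLoc.K25.PicGrpStr K730.Nil IsLocalRing

/-- **T1c**. -/
theorem esh_of_limit {B : Type u} [CommRing B] [IsNoetherianRing B] [IsLocalRing B] {Y : Scheme.{u}}
    (q : Y ⟶ Spec (CommRingCat.of B)) [IsProper q] (x : B) (E : ℕ) (c : PicLoc.PicSet Y)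
    (h : ∀ n : ℕ, ∃ c' : PicLoc.PicSet Y, ESh q x E c' ∧ Tr q (c - c') (Ideal.Quotient.mk (maximalIdeal B ^ n))) :
    ESh q x E c := by
  let _ : Y.Over (Spec (CommRingCat.of B)) := ⟨q⟩
  have hq : IsProper (Y ↘ Spec (CommRingCat.of B)) := ‹IsProper q›
  obtain ⟨L, hcl, hL⟩ := c.2
  have hO : Coh.IsCoh (Coh.structureModule Y) :=
    VarietyA.CurveFin.isCoh_of_isInvertible (fun x => Fdesc.LocGen.isInvertible_structureModule x)
  let _ := CurvesB.HZero.moduleΓ B (Coh.structureModule Y)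
  have hfin' : Module.Finite B (Coh.HH Y (Coh.structureModule Y) 0) := S0002.result B Y _ hO 0
  have hfin : Module.Finite B Γ(Coh.structureModule Y, ⊤) :=
    Module.Finite.equiv (CurvesB.HZero.equivLin B (Coh.structureModule Y))
  obtain ⟨c₀, hc₀⟩ := K29.FF0.exists_ker (maximalIdeal B) hO
  obtain ⟨c₁, hc₁⟩ := exists_const (maximalIdeal B) hL
  let S : Set Γ(Coh.structureModule Y, ⊤) := {y | ∃ (s : Γ(L, ⊤)) (t : L ⟶ Coh.structureModule Y), t.app ⊤ s = y}
  have key : (show Γ(Coh.structureModule Y, ⊤) from fn q x ^ E) ∈ Submodule.span B S := by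
    refine mem_of_forall _ _ fun n => ?_
    let k := n + c₀
    let m := k + c₁ + 1
    obtain ⟨c', ⟨L', hcl', r, s', t', hsum⟩, htr⟩ := h m
    have hj := IsPullback.of_hasPullback q (Spec.map (CommRingCat.ofHom (Ideal.Quotient.mk (maximalIdeal B ^ m))))
    set j := pullback.fst q (Spec.map (CommRingCat.ofHom (Ideal.Quotient.mk (maximalIdeal B ^ m)))) with hjd
    have h1 : pullHom j c = pullHom j c' := by
      rw [← sub_eq_zero, ← map_sub]
      exact htr j _ hj
    have h2 : PicF.cl ((Scheme.Modules.pullback j).obj L) = PicF.cl ((Scheme.Modules.pullback j).obj L') := by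
      have h3 := congrArg Subtype.val h1
      rw [pullHom_val, pullHom_val, ← hcl, hcl'] at h3
      exact h3
    obtain ⟨φ⟩ := Picfga.LineDescent.cl_eq_iff.1 h2
    have hL' : PicF.IsInvertible L' := by
      obtain ⟨L'', hcl'', hL''⟩ := c'.2
      obtain ⟨e⟩ := Picfga.LineDescent.cl_eq_iff.1 (hcl''.trans hcl')
      exact Picfga.LineDescent.isInvertible_of_iso e hL''
    have hu := Pic13.H126.D2Unit.isModPow_unit hj hL
    have hu' := Pic13.H126.D2Unit.isModPow_unit hj hL'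
    have hp := isModPow_modPowπ (maximalIdeal B) (k + 1) (𝟙_ Y.Modules)
    choose s t hst using fun i => hc₁ k m (by omega) _ _ ((Scheme.Modules.pushforward j).mapIso φ) _ hu hu' hp
      ((Dcoh.Restrict.unitEquiv L').symm (s' i)) (t' i)
    refine ⟨∑ i, (t i).app ⊤ (Dcoh.Restrict.unitEquiv L (s i)),
      Submodule.sum_mem _ fun i _ => Submodule.subset_span ⟨_, _, rfl⟩, ?_⟩
    have h4 : k - c₀ = n := Nat.add_sub_cancel _ _
    rw [← h4]
    refine hc₀ k _ hp _ ?_
    have h5 : ∀ i, (Formal.modPowπ (maximalIdeal B) (k + 1) (𝟙_ Y.Modules)).app ⊤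
        ((t i).app ⊤ (Dcoh.Restrict.unitEquiv L (s i))) =
          (Formal.modPowπ (maximalIdeal B) (k + 1) (𝟙_ Y.Modules)).app ⊤ ((t' i).app ⊤ (s' i)) := fun i => by
      have h6 := congrArg (Dcoh.Restrict.unitEquiv _) (hst i)
      have h7 : Dcoh.Restrict.unitEquiv L' ((Dcoh.Restrict.unitEquiv L').symm (s' i)) = s' i :=
        Equiv.apply_symm_apply _ _
      exact h6.trans (congrArg (fun y => (Formal.modPowπ (maximalIdeal B) (k + 1) (𝟙_ Y.Modules)).app ⊤
        ((t' i).app ⊤ y)) h7)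
    let P := (Scheme.Modules.Hom.app (Formal.modPowπ (maximalIdeal B) (k + 1) (𝟙_ Y.Modules)) ⊤).hom
    refine (map_sub P _ _).trans (sub_eq_zero.2 (Eq.trans (congrArg P hsum.symm) ?_))
    exact (map_sum P _ _).trans ((Finset.sum_congr rfl fun i _ => (h5 i).symm).trans (map_sum P _ _).symm)
  obtain ⟨r, f, g, hfg⟩ := Submodule.mem_span_set'.1 key
  choose s t hst using fun i => (g i).2
  refine ⟨L, hcl.symm, r, fun i => CurvesB.HZero.gl B Y (f i) • s i, t, ?_⟩
  refine Eq.trans (Finset.sum_congr rfl fun i _ => ?_) hfg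
  exact ((t i).app_smul _ _).trans (congrArg (fun y => CurvesB.HZero.gl B Y (f i) • y) (hst i))

end K685.EshLimit
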